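import Cfsg.Agent.H410.QA.U62Elts

/-!
# S4816, row `U₆(2)`: the centralizer of an element of order 5 (helper365)

* `card_cent_five` : `|C(pr p5)| = 5 * 6`;
* `classes_six`    : a subgroup of order 6 of it has at most 3 conjugacy classes (it is `S₃`).

The matrices commuting with `P5` are determined, in `SU₆(2)`, by their first column; there are 90 of them.
-/

set_option autoImplicit false
set_option linter.unusedSectionVars false

namespace Cfsg.Agent.H365.RIM.Five

open Cfsg Matrix Cfsg.Agent.SporadicA.FieldFour F4 Cfsg.Agent.H852.USixElts Cfsg.Agent.H410.QA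

/-! ### The first columns -/

/-- the 5-cycle -/
def sg : Equiv.Perm (Fin 6) := ⟨![1, 2, 3, 4, 0, 5], ![4, 0, 1, 2, 3, 5], by decide, by decide⟩

theorem P5_eq : P5 = sg.permMatrix F4 := by
  rw [← pm_eq]
  decide +kernel

/-- conjugation -/
def cj : F4 → F4
  | z => z
  | o => o
  | w => v
  | v => w

theorem frob_eq (x : F4) : frob x = cj x := by cases x <;> rfl

abbrev T6 := F4 × F4 × F4 × F4 × F4 × F4

/-- the conditions on the first column -/
def good : T6 → Bool := fun (a, b, c, d, e, f) =>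
  (cj a * a + cj b * b + cj c * c + cj d * d + cj e * e + cj f * f == o) &&
  ((cj a * e + cj b * a + cj c * b + cj d * c + cj e * d + cj f * f == z) &&
  (cj a * d + cj b * e + cj c * a + cj d * b + cj e * c + cj f * f == z))

/-- the list of the elements -/
def els : List F4 := [z, o, w, v]

/-- the solutions -/
def sols : List T6 :=
  (els.flatMap fun a => els.flatMap fun b => els.flatMap fun c => els.flatMap fun d => els.flatMap fun e =>
    els.map fun f => (a, b, c, d, e, f)).filter good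

set_option maxRecDepth 100000 in
theorem sols_length : sols.length = 90 := by decide +kernel

theorem mem_els (a : F4) : a ∈ els := by cases a <;> decide

theorem mem_sols {t : T6} (h : good t = true) : t ∈ sols := by
  obtain ⟨a, b, c, d, e, f⟩ := t
  refine List.mem_filter.2 ⟨?_, h⟩
  simp only [List.mem_flatMap, List.mem_map]
  exact ⟨a, mem_els a, b, mem_els b, c, mem_els c, d, mem_els d, e, mem_els e, f, mem_els f, rfl⟩

theorem card_good : Nat.card {t : T6 // good t = true} ≤ 90 := by
  classical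
  have h1 : Nat.card {t : T6 // good t = true} ≤ Nat.card {t : T6 // t ∈ sols.toFinset} :=
    Nat.card_le_card_of_injective (fun t => ⟨t.1, List.mem_toFinset.2 (mem_sols t.2)⟩) (by
      intro s t h
      exact Subtype.ext (congrArg (fun x : {t : T6 // t ∈ sols.toFinset} => x.1) h))
  refine h1.trans ?_
  rw [Nat.card_eq_fintype_card, Fintype.card_coe]
  exact (List.toFinset_card_le _).trans sols_length.le

/-! ### Matrices commuting with `P5` -/

theorem entry {H : M6} (hc : H * P5 = P5 * H) (i j : Fin 6) : H i (sg.symm j) = H (sg i) j := by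
  rw [P5_eq] at hc
  have h1 : H * sg.permMatrix F4 = H.submatrix id sg.symm := PEquiv.mul_toMatrix_toPEquiv H sg
  have h2 : sg.permMatrix F4 * H = H.submatrix sg id := PEquiv.toMatrix_toPEquiv_mul sg H
  rw [h1, h2] at hc
  exact congrFun (congrFun hc i) j

theorem entry' {H : M6} (hc : H * P5 = P5 * H) (k j : Fin 6) : H k (sg j) = H (sg.symm k) j := by
  have h1 := entry hc (sg.symm k) (sg j)
  rw [Equiv.symm_apply_apply, Equiv.apply_symm_apply] at h1
  exact h1.symm

/-- the first column -/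
def col (H : M6) : T6 := (H 0 0, H 1 0, H 2 0, H 3 0, H 4 0, H 5 0)

theorem col_eq {H H' : M6} (h : col H = col H') (k : Fin 6) : H k 0 = H' k 0 := by
  simp only [col, Prod.mk.injEq] at h
  obtain ⟨h0, h1, h2, h3, h4, h5⟩ := h
  fin_cases k <;> assumption

theorem cols_eq {H H' : M6} (hc : H * P5 = P5 * H) (hc' : H' * P5 = P5 * H') (h : col H = col H') (k : Fin 6) :
    H k 0 = H' k 0 ∧ H k 1 = H' k 1 ∧ H k 2 = H' k 2 ∧ H k 3 = H' k 3 ∧ H k 4 = H' k 4 := by
  have h0 := col_eq h
  have h1 : ∀ k, H k 1 = H' k 1 := fun k => by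
    have e1 := entry' hc k 0
    have e2 := entry' hc' k 0
    exact e1.trans ((h0 _).trans e2.symm)
  have h2 : ∀ k, H k 2 = H' k 2 := fun k => by
    have e1 := entry' hc k 1
    have e2 := entry' hc' k 1
    exact e1.trans ((h1 _).trans e2.symm)
  have h3 : ∀ k, H k 3 = H' k 3 := fun k => by
    have e1 := entry' hc k 2
    have e2 := entry' hc' k 2
    exact e1.trans ((h2 _).trans e2.symm)
  have h4 : ∀ k, H k 4 = H' k 4 := fun k => by
    have e1 := entry' hc k 3
    have e2 := entry' hc' k 3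
    exact e1.trans ((h3 _).trans e2.symm)
  exact ⟨h0 k, h1 k, h2 k, h3 k, h4 k⟩

theorem gram {H : M6} (h : st H * H = 1) (i j : Fin 6) :
    cj (H 0 i) * H 0 j + cj (H 1 i) * H 1 j + cj (H 2 i) * H 2 j + cj (H 3 i) * H 3 j + cj (H 4 i) * H 4 j +
      cj (H 5 i) * H 5 j = (1 : M6) i j := by
  have h1 := congrFun (congrFun h i) j
  rw [Matrix.mul_apply, Fin.sum_univ_six] at h1
  rw [← h1]
  simp only [st, Matrix.transpose_apply, Matrix.map_apply, frob_eq]

theorem good_col {H : M6} (hc : H * P5 = P5 * H) (h : st H * H = 1) : good (col H) = true := by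
  have g0 := gram h 0 0
  have g1 := gram h 0 1
  have g2 := gram h 0 2
  have e1 : ∀ k, H k 1 = H (sg.symm k) 0 := fun k => entry' hc k 0
  have e2 : ∀ k, H k 2 = H (sg.symm (sg.symm k)) 0 := fun k => (entry' hc k 1).trans (e1 _)
  rw [e1, e1, e1, e1, e1, e1] at g1
  rw [e2, e2, e2, e2, e2, e2] at g2
  have s0 : sg.symm 0 = 4 := rfl
  have s1 : sg.symm 1 = 0 := rfl
  have s2 : sg.symm 2 = 1 := rfl
  have s3 : sg.symm 3 = 2 := rfl
  have s4 : sg.symm 4 = 3 := rfl
  have s5 : sg.symm 5 = 5 := rfl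
  simp only [s0, s1, s2, s3, s4, s5] at g1 g2
  unfold good col
  simp only [Bool.and_eq_true, beq_iff_eq]
  exact ⟨g0, g1, g2⟩

/-- uniqueness -/
theorem eq_of_cols {g g' : SU 6 F4 2} (hc : mat g * P5 = P5 * mat g) (hc' : mat g' * P5 = P5 * mat g')
    (h : col (mat g) = col (mat g')) : g = g' := by
  have h1 := fun k => cols_eq hc hc' h k
  set U : M6 := st (mat g) * mat g' with hU
  have hgram := fun i j => gram (st_mat g) i j
  have hUe : ∀ i j, U i j = cj (mat g 0 i) * mat g' 0 j + cj (mat g 1 i) * mat g' 1 j + cj (mat g 2 i) * mat g' 2 j +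
      cj (mat g 3 i) * mat g' 3 j + cj (mat g 4 i) * mat g' 4 j + cj (mat g 5 i) * mat g' 5 j := by
    intro i j
    rw [hU, Matrix.mul_apply, Fin.sum_univ_six]
    simp only [st, Matrix.transpose_apply, Matrix.map_apply, frob_eq]
  have hU5 : ∀ i j, j ≠ 5 → U i j = (1 : M6) i j := by
    intro i j hj
    rw [hUe, ← hgram i j]
    have hk : ∀ k, mat g' k j = mat g k j := by
      intro k
      obtain ⟨e0, e1, e2, e3, e4⟩ := h1 k
      fin_cases j
      · exact e0.symm
      · exact e1.symm
      · exact e2.symm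
      · exact e3.symm
      · exact e4.symm
      · exact absurd rfl hj
    rw [hk, hk, hk, hk, hk, hk]
  -- `U` is the matrix of `g⁻¹ g'`
  have hUm : U = mat (g⁻¹ * g') := by
    have h2 : mat g⁻¹ = st (mat g) := by
      have h3 : mat g⁻¹ * mat g = 1 := by
        rw [← mat_mul, inv_mul_cancel, mat_one]
      calc mat g⁻¹ = mat g⁻¹ * (mat g * st (mat g)) := by rw [mat_mul_st, mul_one]
        _ = st (mat g) := by rw [← mul_assoc, h3, one_mul]
    rw [mat_mul, h2]
  have hst : st U * U = 1 := by rw [hUm]; exact st_mat _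
  have hdet : U.det = 1 := by rw [hUm]; exact det_mat _
  have hcol : ∀ i, i ≠ 5 → U i 5 = 0 := by
    intro i hi
    have h3 := gram hst i 5
    have h4 : ∀ k, U k i = (1 : M6) k i := fun k => hU5 k i hi
    rw [h4, h4, h4, h4, h4, h4, Matrix.one_apply_ne hi] at h3
    have ho : (o : F4) = 1 := rfl
    have hz : (z : F4) = 0 := rfl
    fin_cases i
    · simpa [Matrix.one_apply, cj, ho, hz] using h3
    · simpa [Matrix.one_apply, cj, ho, hz] using h3
    · simpa [Matrix.one_apply, cj, ho, hz] using h3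
    · simpa [Matrix.one_apply, cj, ho, hz] using h3
    · simpa [Matrix.one_apply, cj, ho, hz] using h3
    · exact absurd rfl hi
  have hdiag : U = Matrix.diagonal ![1, 1, 1, 1, 1, U 5 5] := by
    ext i j
    by_cases hj : j = 5
    · subst hj
      by_cases hi : i = 5
      · subst hi
        rw [Matrix.diagonal_apply_eq]
        rfl
      · rw [hcol i hi, Matrix.diagonal_apply_ne _ hi]
    · rw [hU5 i j hj]
      by_cases hij : i = j
      · subst hij
        rw [Matrix.diagonal_apply_eq, Matrix.one_apply_eq]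
        fin_cases i <;> first | rfl | exact absurd rfl hj
      · rw [Matrix.one_apply_ne hij, Matrix.diagonal_apply_ne _ hij]
  have h55 : U 5 5 = 1 := by
    rw [hdiag, Matrix.det_diagonal, Fin.prod_univ_six] at hdet
    simpa using hdet
  have hone : U = 1 := by
    rw [hdiag, h55, ← Matrix.diagonal_one]
    congr 1
    funext i
    fin_cases i <;> rfl
  have h3 : g⁻¹ * g' = 1 := by
    apply mat_inj
    rw [← hUm, hone, mat_one]
  exact (inv_mul_eq_one.1 h3)

/-! ### The centralizer -/

theorem mat_of_pr {c : PSU 6 F4 2} (hc : c * pr p5 = pr p5 * c) {g : SU 6 F4 2} (hg : pr g = c) :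
    mat g * P5 = P5 * mat g := by
  have h1 : pr ((p5 * g)⁻¹ * (g * p5)) = 1 := by
    rw [map_mul, map_inv, map_mul, map_mul, hg, hc, inv_mul_cancel]
  obtain ⟨c', -, h2⟩ := pr_eq_one h1
  have h3 : mat g * P5 = c' • (P5 * mat g) := by
    have h4 : g * p5 = (p5 * g) * ((p5 * g)⁻¹ * (g * p5)) := by group
    have h5 := congrArg mat h4
    rw [mat_mul _ ((p5 * g)⁻¹ * (g * p5)), h2, Matrix.mul_smul, mul_one, mat_mul, mat_mul] at h5
    exact h5
  have h4 : ∀ k : ℕ, mat g * P5 ^ k = c' ^ k • (P5 ^ k * mat g) := by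
    intro k
    induction k with
    | zero => rw [pow_zero, pow_zero, one_smul, one_mul, mul_one]
    | succ k ih =>
      rw [pow_succ, ← mul_assoc, ih, Matrix.smul_mul, mul_assoc, h3, Matrix.mul_smul, smul_smul, ← pow_succ,
        ← mul_assoc]
  have h5 := h4 5
  rw [P5_pow, mul_one, one_mul] at h5
  have h6 : (1 : M6) = c' ^ 5 • (1 : M6) := by
    calc (1 : M6) = mat g * st (mat g) := (mat_mul_st g).symm
      _ = (c' ^ 5 • mat g) * st (mat g) := by rw [← h5]
      _ = c' ^ 5 • (1 : M6) := by rw [Matrix.smul_mul, mat_mul_st]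
  have h7 := congrFun (congrFun h6 0) 0
  rw [Matrix.smul_apply, Matrix.one_apply_eq, smul_eq_mul, mul_one] at h7
  have h8 : ∀ x : F4, 1 = x ^ 5 → x = 1 := by decide
  rw [h8 c' h7, one_smul] at h3
  exact h3

theorem sum_six (l : ZMod 3) : ∑ _i : Fin 6, l = 0 := by
  revert l
  decide

/-- scalars -/
def sc (l : ZMod 3) : SU 6 F4 2 := sd (fun _ => l) (sum_six l)

theorem sc_inj {l l' : ZMod 3} (h : sc l = sc l') : l = l' := by
  have h1 := congrFun (congrFun (congrArg mat h) 0) 0
  have h2 : ∀ l, mat (sc l) 0 0 = uu l := fun l => Matrix.diagonal_apply_eq _ 0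
  rw [h2, h2] at h1
  exact uu_inj _ _ h1

theorem card_cent_le [Finite (PSU 6 F4 2)] :
    Nat.card (Subgroup.centralizer ({pr p5} : Set (PSU 6 F4 2))) ≤ 30 := by
  classical
  have hlift : ∀ c : Subgroup.centralizer ({pr p5} : Set (PSU 6 F4 2)), ∃ g : SU 6 F4 2, pr g = c.1 := fun c =>
    QuotientGroup.mk'_surjective _ c.1
  choose lift hl using hlift
  have hpr : ∀ (c : Subgroup.centralizer ({pr p5} : Set (PSU 6 F4 2))) (l : ZMod 3), pr (lift c * sc l) = c.1 := by
    intro c l
    rw [map_mul, sc, pr_const, mul_one, hl]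
  have hcomm : ∀ (c : Subgroup.centralizer ({pr p5} : Set (PSU 6 F4 2))) (l : ZMod 3),
      mat (lift c * sc l) * P5 = P5 * mat (lift c * sc l) := fun c l =>
    mat_of_pr ((Subgroup.mem_centralizer_singleton_iff).1 c.2) (hpr c l)
  have h1 : Nat.card (Subgroup.centralizer ({pr p5} : Set (PSU 6 F4 2)) × ZMod 3) ≤
      Nat.card {t : T6 // good t = true} := by
    refine Nat.card_le_card_of_injective
      (fun x => ⟨col (mat (lift x.1 * sc x.2)), good_col (hcomm x.1 x.2) (st_mat _)⟩) ?_
    rintro ⟨c, l⟩ ⟨c', l'⟩ h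
    have h2 : lift c * sc l = lift c' * sc l' := eq_of_cols (hcomm c l) (hcomm c' l') (congrArg Subtype.val h)
    have h3 : c = c' := Subtype.ext (by rw [← hpr c l, h2, hpr])
    subst h3
    rw [sc_inj (mul_left_cancel h2)]
  rw [Nat.card_prod, Nat.card_zmod] at h1
  have h2 := card_good
  omega

def TT : M6 := !![z,o,o,o,o,o; o,z,o,o,o,o; o,o,z,o,o,o; o,o,o,z,o,o; o,o,o,o,z,o; o,o,o,o,o,z]
def ZZ : M6 := !![w,v,v,v,v,z; v,w,v,v,v,z; v,v,w,v,v,z; v,v,v,w,v,z; v,v,v,v,w,z; z,z,z,z,z,v]

theorem TT_st : st TT * TT = 1 := by decide +kernel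
theorem TT_pow : TT ^ 2 = 1 := by decide +kernel
theorem TT_P5 : TT * P5 = P5 * TT := by decide +kernel
theorem ZZ_st : st ZZ * ZZ = 1 := by decide +kernel
theorem ZZ_pow : ZZ ^ 3 = 1 := by decide +kernel
theorem ZZ_det : ZZ.det = 1 := by decide +kernel
theorem ZZ_P5 : ZZ * P5 = P5 * ZZ := by decide +kernel
theorem TT_ZZ : TT * ZZ = (ZZ * ZZ) * TT := by decide +kernel

def tt : SU 6 F4 2 := mk TT TT_st (det_one_of_pow 2 TT_pow (by decide))
def zz : SU 6 F4 2 := mk ZZ ZZ_st ZZ_det

theorem order_tt : orderOf (pr tt) = 2 := by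
  refine orderOf_pr (by norm_num) (mat_inj ?_) (pr_ne_one 0 1 (by decide) (by decide))
  rw [mat_pow]
  exact TT_pow

theorem order_zz : orderOf (pr zz) = 3 := by
  refine orderOf_pr (by norm_num) (mat_inj ?_) (pr_ne_one 0 1 (by decide) (by decide))
  rw [mat_pow]
  exact ZZ_pow

theorem tt_mem : pr tt ∈ Subgroup.centralizer ({pr p5} : Set (PSU 6 F4 2)) :=
  Subgroup.mem_centralizer_singleton_iff.2 (pr_comm TT_P5)

theorem zz_mem : pr zz ∈ Subgroup.centralizer ({pr p5} : Set (PSU 6 F4 2)) :=
  Subgroup.mem_centralizer_singleton_iff.2 (pr_comm ZZ_P5)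

theorem p5_mem : pr p5 ∈ Subgroup.centralizer ({pr p5} : Set (PSU 6 F4 2)) :=
  Subgroup.mem_centralizer_singleton_iff.2 rfl

theorem tt_zz : pr tt * pr zz = pr zz ^ 2 * pr tt := by
  rw [← map_pow, ← map_mul, ← map_mul]
  congr 1
  apply mat_inj
  rw [mat_mul, mat_mul, mat_pow, pow_two]
  exact TT_ZZ

theorem not_comm : pr tt * pr zz ≠ pr zz * pr tt := by
  intro h
  rw [tt_zz, pow_two] at h
  have h1 : pr zz = 1 := by
    have h2 := mul_right_cancel h
    exact mul_eq_left.1 h2
  have h2 := order_zz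
  rw [h1, orderOf_one] at h2
  norm_num at h2

theorem finite_PSU' : Finite (PSU 6 F4 2) :=
  Finite.of_surjective (QuotientGroup.mk' (Subgroup.center (SU 6 F4 2))) (QuotientGroup.mk'_surjective _)

/-- **the centralizer of an element of order 5** -/
theorem card_cent_five : Nat.card (Subgroup.centralizer ({pr p5} : Set (PSU 6 F4 2))) = 5 * 6 := by
  have := finite_PSU'
  have h1 := card_cent_le
  have hd : ∀ {g : PSU 6 F4 2} (_ : g ∈ Subgroup.centralizer ({pr p5} : Set (PSU 6 F4 2))),
      orderOf g ∣ Nat.card (Subgroup.centralizer ({pr p5} : Set (PSU 6 F4 2))) := by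
    intro g hg
    have h2 := orderOf_dvd_natCard (⟨g, hg⟩ : Subgroup.centralizer ({pr p5} : Set (PSU 6 F4 2)))
    rwa [Subgroup.orderOf_mk] at h2
  have h5 := hd p5_mem
  have h2 := hd tt_mem
  have h3 := hd zz_mem
  rw [order_p5] at h5
  rw [order_tt] at h2
  rw [order_zz] at h3
  have h30 : 30 ∣ Nat.card (Subgroup.centralizer ({pr p5} : Set (PSU 6 F4 2))) := by omega
  have hpos : 0 < Nat.card (Subgroup.centralizer ({pr p5} : Set (PSU 6 F4 2))) := Nat.card_pos
  have := Nat.le_of_dvd hpos h30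
  omega

/-! ### Groups of order 6 -/

/-- a nonabelian group of order 6 has at most 3 classes -/
theorem classes_le_three {G : Type*} [Group G] [Finite G] (h6 : Nat.card G = 6) (hna : ¬ ∀ a b : G, a * b = b * a) :
    Nat.card (ConjClasses G) ≤ 3 := by
  classical
  have hfin := Fintype.ofFinite G
  -- the centre is trivial
  have hZ : ∀ x : G, (∀ y, y * x = x * y) → x = 1 := by
    intro x hx
    by_contra hx1
    apply hna
    have hxZ : x ∈ Subgroup.center G := Subgroup.mem_center_iff.2 hx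
    have hne : Nat.card (Subgroup.center G) ≠ 1 := by
      intro h1
      rw [Subgroup.card_eq_one] at h1
      rw [h1] at hxZ
      exact hx1 (Subgroup.mem_bot.1 hxZ)
    have h1 := Subgroup.card_mul_index (Subgroup.center G)
    rw [h6] at h1
    have h2 : (Subgroup.center G).index ≤ 3 := by
      by_contra hcon
      push Not at hcon
      have h3 : 0 < Nat.card (Subgroup.center G) := Nat.card_pos
      have h4 : 2 * 4 ≤ Nat.card (Subgroup.center G) * (Subgroup.center G).index :=
        Nat.mul_le_mul (by omega) hcon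
      omega
    have h3 : (Subgroup.center G).index ≠ 0 := by
      intro h0
      rw [h0, mul_zero] at h1
      omega
    have hcyc : IsCyclic (G ⧸ Subgroup.center G) := by
      have h4 : Nat.card (G ⧸ Subgroup.center G) = (Subgroup.center G).index := rfl
      have h5 : (Subgroup.center G).index = 1 ∨ (Subgroup.center G).index = 2 ∨ (Subgroup.center G).index = 3 := by omega
      rcases h5 with h5 | h5 | h5
      · have : Subsingleton (G ⧸ Subgroup.center G) := (Nat.card_eq_one_iff_unique.1 (h4.trans h5)).1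
        infer_instance
      · have : Fact (Nat.Prime 2) := ⟨Nat.prime_two⟩
        exact isCyclic_of_prime_card (p := 2) (h4.trans h5)
      · have : Fact (Nat.Prime 3) := ⟨Nat.prime_three⟩
        exact isCyclic_of_prime_card (p := 3) (h4.trans h5)
    exact commutative_of_cyclic_center_quotient (QuotientGroup.mk' (Subgroup.center G))
      (by rw [QuotientGroup.ker_mk'])
  -- the class equation
  have hcl := sum_conjClasses_card_eq_card (G := G)
  rw [← Nat.card_eq_fintype_card, h6] at hcl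
  have h2 : ∀ c ∈ (Finset.univ.erase (1 : ConjClasses G)), 2 ≤ c.carrier.toFinset.card := by
    intro c hc
    obtain ⟨x, rfl⟩ := ConjClasses.exists_rep c
    have hx1 : x ≠ 1 := by
      rintro rfl
      exact (Finset.mem_erase.1 hc).1 rfl
    have hex : ∃ y, ¬ y * x = x * y := by
      by_contra hcon
      push Not at hcon
      exact hx1 (hZ x hcon)
    obtain ⟨y, hy⟩ := hex
    have h3 : ({x, y * x * y⁻¹} : Finset G) ⊆ (ConjClasses.mk x).carrier.toFinset := by
      intro u hu
      rw [Set.mem_toFinset, ConjClasses.mem_carrier_iff_mk_eq, ConjClasses.mk_eq_mk_iff_isConj]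
      rcases Finset.mem_insert.1 hu with rfl | hu
      · exact IsConj.refl _
      · rw [Finset.mem_singleton.1 hu]
        exact (isConj_iff.2 ⟨y, rfl⟩).symm
    refine le_trans ?_ (Finset.card_le_card h3)
    rw [Finset.card_pair]
    intro h4
    apply hy
    rw [← mul_inv_eq_iff_eq_mul]
    exact h4.symm
  have h1 : 1 ≤ (1 : ConjClasses G).carrier.toFinset.card := by
    rw [Nat.succ_le_iff, Finset.card_pos]
    exact ⟨1, Set.mem_toFinset.2 (ConjClasses.mem_carrier_iff_mk_eq.2 rfl)⟩
  rw [← Finset.add_sum_erase _ _ (Finset.mem_univ (1 : ConjClasses G))] at hcl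
  have h3 := Finset.card_nsmul_le_sum _ (fun c : ConjClasses G => c.carrier.toFinset.card) 2 h2
  rw [Finset.card_erase_of_mem (Finset.mem_univ _), Finset.card_univ, smul_eq_mul] at h3
  rw [Nat.card_eq_fintype_card]
  omega

/-- **the subgroups of order 6 of `C(pr p5)`** -/
theorem classes_six (C₀ : Subgroup (PSU 6 F4 2)) (hC : C₀ ≤ Subgroup.centralizer ({pr p5} : Set (PSU 6 F4 2)))
    (h6 : Nat.card C₀ = 6) : Nat.card (ConjClasses C₀) ≤ 3 := by
  have := finite_PSU'
  refine classes_le_three h6 fun hab => ?_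
  -- `C₀ × ⟨p5⟩ → C` is onto
  let C := Subgroup.centralizer ({pr p5} : Set (PSU 6 F4 2))
  have hz : Subgroup.zpowers (pr p5) ≤ C := by
    rw [Subgroup.zpowers_le]
    exact p5_mem
  have hdis : ∀ x, x ∈ C₀ → x ∈ Subgroup.zpowers (pr p5) → x = 1 := by
    intro x hx hx'
    have h1 : orderOf x ∣ 6 := by
      have h2 := orderOf_dvd_natCard (⟨x, hx⟩ : C₀)
      rwa [Subgroup.orderOf_mk, h6] at h2
    have h3 : orderOf x ∣ 5 := by
      have h2 := orderOf_dvd_natCard (⟨x, hx'⟩ : Subgroup.zpowers (pr p5))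
      rwa [Subgroup.orderOf_mk, Nat.card_zpowers, order_p5] at h2
    have h4 : orderOf x ∣ 1 := by
      have h5 := Nat.dvd_gcd h1 h3
      norm_num at h5
      rw [h5, orderOf_one]
    exact orderOf_eq_one_iff.1 (Nat.dvd_one.1 h4)
  let f : C₀ × Subgroup.zpowers (pr p5) → C := fun x => ⟨x.1.1 * x.2.1, C.mul_mem (hC x.1.2) (hz x.2.2)⟩
  have hf : Function.Injective f := by
    rintro ⟨a, b⟩ ⟨a', b'⟩ h
    have h1 : (a : PSU 6 F4 2) * b = a' * b' := congrArg Subtype.val h
    have h2 : (a' : PSU 6 F4 2)⁻¹ * a = b' * (b : PSU 6 F4 2)⁻¹ := by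
      rw [inv_mul_eq_iff_eq_mul, ← mul_assoc, ← h1, mul_inv_cancel_right]
    have h3 := hdis _ (C₀.mul_mem (C₀.inv_mem a'.2) a.2) (by
      rw [h2]
      exact Subgroup.mul_mem _ b'.2 (Subgroup.inv_mem _ b.2))
    have h4 : a = a' := Subtype.ext (inv_mul_eq_one.1 h3).symm
    subst h4
    have h5 : b = b' := Subtype.ext (mul_left_cancel h1)
    rw [h5]
  have hbij : Function.Bijective f := by
    have h1 := (Nat.bijective_iff_injective_and_card f).2 ⟨hf, by
      rw [Nat.card_prod, h6, Nat.card_zpowers, order_p5]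
      exact card_cent_five.symm⟩
    exact h1
  have hcomm : ∀ x ∈ C, ∀ y ∈ C, x * y = y * x := by
    intro x hx y hy
    obtain ⟨⟨a, b⟩, h1⟩ := hbij.2 ⟨x, hx⟩
    obtain ⟨⟨a', b'⟩, h2⟩ := hbij.2 ⟨y, hy⟩
    have h3 : (a : PSU 6 F4 2) * b = x := congrArg Subtype.val h1
    have h4 : (a' : PSU 6 F4 2) * b' = y := congrArg Subtype.val h2
    have haa : Commute (a : PSU 6 F4 2) a' := congrArg Subtype.val (hab a a')
    have hzc : ∀ (c : C₀) (b : Subgroup.zpowers (pr p5)), Commute (c : PSU 6 F4 2) b := by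
      intro c b
      obtain ⟨k, hk⟩ := Subgroup.mem_zpowers_iff.1 b.2
      have h5 : Commute (c : PSU 6 F4 2) (pr p5) := Subgroup.mem_centralizer_singleton_iff.1 (hC c.2)
      rw [← hk]
      exact h5.zpow_right k
    have hbb : Commute (b : PSU 6 F4 2) b' := by
      obtain ⟨k, hk⟩ := Subgroup.mem_zpowers_iff.1 b.2
      obtain ⟨k', hk'⟩ := Subgroup.mem_zpowers_iff.1 b'.2
      rw [← hk, ← hk']
      exact ((Commute.refl (pr p5)).zpow_zpow k k')
    rw [← h3, ← h4]
    exact ((haa.mul_right (hzc a b')).mul_left ((hzc a' b).symm.mul_right hbb)).eq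
  exact not_comm (hcomm _ tt_mem _ zz_mem)

end Cfsg.Agent.H365.RIM.Five
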